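import Cfsg.Agent.ClassicalGeometry.DicksonCount
set_option linter.all false

-- part: H275/TwoFix
section
set_option autoImplicit false

/-!
# Finite groups all of whose nonidentity elements have exactly two fixed points

The orbit counting behind the classification of the finite subgroups of `PGL₂` of order prime to the characteristic.
`cases_of_four_le`: at most two points have a stabilizer of order at least four, or all these points form one orbit
of length 6 (stabilizers of order 4) or 12 (stabilizers of order 5).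
-/

namespace Cfsg.Agent.H275.TwoFix

open MulAction Cfsg.Agent.ClassicalGeometry.DicksonCount

/-- Every nonidentity element has exactly two fixed points. -/
def TwoFixed (G X : Type*) [Group G] [MulAction G X] : Prop :=
  ∀ g : G, g ≠ 1 → ∃ x y : X, x ≠ y ∧ ∀ z : X, g • z = z ↔ z = x ∨ z = y

variable {G X : Type*} [Group G] [MulAction G X]

theorem sum_formula [Finite G] (h : TwoFixed G X) (S : Finset X)
    (hS : ∀ x : X, (∃ g : G, g ≠ 1 ∧ g • x = x) → x ∈ S) :
    ∑ x ∈ S, Nat.card (stabilizer G x) + 2 = 2 * Nat.card G + S.card := by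
  classical
  have := Fintype.ofFinite G
  have e1 : ∀ x : X, Nat.card (stabilizer G x) = ∑ g : G, if g • x = x then 1 else 0 := by
    intro x
    rw [Finset.sum_boole, Nat.cast_id, Nat.card_eq_fintype_card, Fintype.card_subtype]
    rfl
  have e3 : ∀ g : G, g ≠ 1 → ∑ x ∈ S, (if g • x = x then 1 else 0) = 2 := by
    intro g hg
    obtain ⟨x, y, hxy, hf⟩ := h g hg
    have hxS : x ∈ S := hS x ⟨g, hg, (hf x).2 (Or.inl rfl)⟩
    have hyS : y ∈ S := hS y ⟨g, hg, (hf y).2 (Or.inr rfl)⟩
    have h1 : ∀ z ∈ S, (if g • z = z then 1 else 0) =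
        (if z = x then 1 else 0) + (if z = y then 1 else 0) := by
      intro z _
      simp only [hf]
      by_cases hzx : z = x
      · subst hzx; simp [hxy]
      · simp [hzx]
    rw [Finset.sum_congr rfl h1, Finset.sum_add_distrib,
      Finset.sum_ite_eq' S x, Finset.sum_ite_eq' S y, if_pos hxS, if_pos hyS]
  have e4 : ∑ x ∈ S, Nat.card (stabilizer G x) = ∑ g : G, ∑ x ∈ S, (if g • x = x then 1 else 0) := by
    rw [Finset.sum_comm]
    exact Finset.sum_congr rfl (fun x _ => e1 x)
  rw [e4, ← Finset.add_sum_erase Finset.univ _ (Finset.mem_univ (1 : G))]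
  have e5 : ∀ g ∈ Finset.univ.erase (1 : G), ∑ x ∈ S, (if g • x = x then 1 else 0) = 2 :=
    fun g hg => e3 g (Finset.ne_of_mem_erase hg)
  rw [Finset.sum_congr rfl e5, Finset.sum_const, Finset.card_erase_of_mem (Finset.mem_univ _)]
  have e6 : ∑ x ∈ S, (if (1 : G) • x = x then 1 else 0) = S.card := by
    have : ∀ x ∈ S, (if (1 : G) • x = x then 1 else 0) = 1 := by
      intro x _
      rw [if_pos (one_smul _ _)]
    rw [Finset.sum_congr rfl this, Finset.sum_const, smul_eq_mul, mul_one]
  rw [e6, Finset.card_univ, ← Nat.card_eq_fintype_card, smul_eq_mul]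
  have : 0 < Nat.card G := Nat.card_pos
  omega

theorem exists_finset [Finite G] (h : TwoFixed G X) :
    ∃ S : Finset X, ∀ x : X, x ∈ S ↔ ∃ g : G, g ≠ 1 ∧ g • x = x := by
  classical
  have hfin : Set.Finite {x : X | ∃ g : G, g ≠ 1 ∧ g • x = x} := by
    have : {x : X | ∃ g : G, g ≠ 1 ∧ g • x = x} = ⋃ g : {g : G // g ≠ 1}, {x : X | (g : G) • x = x} := by
      ext x
      simp
    rw [this]
    apply Set.finite_iUnion
    rintro ⟨g, hg⟩
    obtain ⟨x, y, -, hf⟩ := h g hg
    apply (Set.toFinite {x, y}).subset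
    intro z hz
    exact (hf z).1 hz
  exact ⟨hfin.toFinset, fun x => by rw [Set.Finite.mem_toFinset]; rfl⟩

theorem exists_reps' [Finite G] (h : TwoFixed G X) : ∃ S R : Finset X, Reps G S R := by
  obtain ⟨S, hS⟩ := exists_finset h
  have hinv : ∀ (g : G) (x : X), x ∈ S → g • x ∈ S := by
    intro g x hx
    rw [hS] at hx ⊢
    obtain ⟨u, hu, hux⟩ := hx
    refine ⟨g * u * g⁻¹, ?_, ?_⟩
    · intro hc
      apply hu
      have : u = g⁻¹ * (g * u * g⁻¹) * g := by group
      rw [this, hc]; group
    · rw [mul_smul, mul_smul, inv_smul_smul, hux]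
  obtain ⟨R, h1, h2, h3, h4⟩ := exists_reps (G := G) S hinv
  exact ⟨S, R, ⟨hS, h1, h2, h3, h4⟩⟩

theorem sum_R [Finite G] (h : TwoFixed G X) {S R : Finset X} (hSR : Reps G S R) :
    R.card * Nat.card G + 2 = 2 * Nat.card G + ∑ r ∈ R, Nat.card (orbit G r) := by
  have h1 := sum_formula h S (fun x hx => (hSR.mem x).2 hx)
  rw [hSR.sum (fun x => Nat.card (stabilizer G x)) (fun g x => by rw [card_stab_smul])] at h1
  have h2 := hSR.sum (fun _ => 1) (fun _ _ => rfl)
  simp only [Finset.sum_const, smul_eq_mul, mul_one] at h2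
  have h3 : ∑ r ∈ R, Nat.card (orbit G r) * Nat.card (stabilizer G r) = R.card * Nat.card G := by
    rw [Finset.sum_congr rfl (fun r _ => card_orbit_mul r), Finset.sum_const, smul_eq_mul]
  rw [h3, h2] at h1
  exact h1

/-- At most two points have a stabilizer of order at least four, or all these points form one orbit of length 6
(stabilizers of order 4) or 12 (stabilizers of order 5). -/
theorem cases_of_four_le [Finite G] (h : TwoFixed G X) (x : X) (hx : 4 ≤ Nat.card (stabilizer G x)) :
    (∃ a b : X, ∀ y : X, 4 ≤ Nat.card (stabilizer G y) → y = a ∨ y = b) ∨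
    (Nat.card (stabilizer G x) = 4 ∧ Nat.card (orbit G x) = 6 ∧
      ∀ y : X, 4 ≤ Nat.card (stabilizer G y) → y ∈ orbit G x) ∨
    (Nat.card (stabilizer G x) = 5 ∧ Nat.card (orbit G x) = 12 ∧
      ∀ y : X, 4 ≤ Nat.card (stabilizer G y) → y ∈ orbit G x) := by
  classical
  obtain ⟨S, R, hSR⟩ := exists_reps' h
  have hsum := sum_R h hSR
  set N := Nat.card G with hN
  have hne : ∀ r : X, Nat.card (orbit G r) * Nat.card (stabilizer G r) = N := fun r : X => card_orbit_mul r
  have hmemS : ∀ y : X, 2 ≤ Nat.card (stabilizer G y) → y ∈ S := by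
    intro y hy
    rw [hSR.mem]
    have : Nontrivial (stabilizer G y) := Finite.one_lt_card_iff_nontrivial.1 (by omega)
    obtain ⟨g, hg⟩ := exists_ne (1 : stabilizer G y)
    exact ⟨g, fun hc => hg (Subtype.ext hc), g.2⟩
  have he : ∀ r ∈ R, 2 ≤ Nat.card (stabilizer G r) := by
    intro r hr
    obtain ⟨g, hg, hgr⟩ := (hSR.mem r).1 (hSR.sub hr)
    have : Nontrivial (stabilizer G r) :=
      ⟨⟨⟨g, hgr⟩, 1, fun hc => hg (congrArg Subtype.val hc)⟩⟩
    exact Finite.one_lt_card
  have horb : ∀ y : X, 2 ≤ Nat.card (stabilizer G y) → ∃ r ∈ R, y ∈ orbit G r ∧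
      Nat.card (stabilizer G y) = Nat.card (stabilizer G r) := by
    intro y hy
    obtain ⟨r, hr, hyr⟩ := hSR.cover y (hmemS y hy)
    refine ⟨r, hr, hyr, ?_⟩
    obtain ⟨g, rfl⟩ := hyr
    exact card_stab_smul g r
  have hNpos : 0 < N := Nat.card_pos
  have hR3 : R.card ≤ 3 := by
    by_contra hcon
    push Not at hcon
    have h1 : ∑ r ∈ R, Nat.card (orbit G r) * 2 ≤ ∑ r ∈ R, N := by
      apply Finset.sum_le_sum
      intro r hr
      rw [← hne r]
      exact Nat.mul_le_mul le_rfl (he r hr)
    rw [← Finset.sum_mul, Finset.sum_const, smul_eq_mul] at h1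
    have h5 : 4 * N ≤ R.card * N := Nat.mul_le_mul (by omega) le_rfl
    omega
  obtain ⟨r, hr, hxr, hxe⟩ := horb x (by omega)
  have hxorb : Nat.card (orbit G x) = Nat.card (orbit G r) := by
    rw [orbit_eq_iff.2 hxr]
  have hr4 : 4 ≤ Nat.card (stabilizer G r) := by omega
  -- the size of the group
  have hN4 : 4 ≤ N := by
    have h1 := Nat.le_of_dvd Nat.card_pos (Subgroup.card_subgroup_dvd_card (stabilizer G x))
    omega
  have hpos : ∀ s : X, 0 < Nat.card (orbit G s) := by
    intro s
    apply Nat.pos_of_ne_zero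
    intro h0
    have := hne s
    rw [h0] at this
    omega
  interval_cases hRc : R.card
  · -- no orbits
    exfalso; omega
  · exfalso
    have := hpos r
    obtain ⟨s, rfl⟩ := Finset.card_eq_one.1 hRc
    rw [Finset.sum_singleton] at hsum
    omega
  · -- two orbits
    left
    obtain ⟨s, t, hst, rfl⟩ := Finset.card_eq_two.1 hRc
    rw [Finset.sum_pair hst] at hsum
    have h1 := hpos s
    have h2 := hpos t
    have h3 : Nat.card (orbit G s) = 1 := by omega
    have h4 : Nat.card (orbit G t) = 1 := by omega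
    refine ⟨s, t, fun y hy => ?_⟩
    obtain ⟨u, hu, hyu, -⟩ := horb y (by omega)
    have hone : ∀ w : X, Nat.card (orbit G w) = 1 → y ∈ orbit G w → y = w := by
      intro w hw hy'
      rw [Nat.card_eq_one_iff_unique] at hw
      have := hw.1
      exact congrArg Subtype.val (Subsingleton.elim (⟨y, hy'⟩ : orbit G w) ⟨w, mem_orbit_self w⟩)
    rw [Finset.mem_insert, Finset.mem_singleton] at hu
    rcases hu with rfl | rfl
    · exact Or.inl (hone _ h3 hyu)
    · exact Or.inr (hone _ h4 hyu)
  · -- three orbits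
    obtain ⟨s, t, hrs, hrt, hst, hRR⟩ : ∃ s t : X, r ≠ s ∧ r ≠ t ∧ s ≠ t ∧ R = {r, s, t} := by
      have h1 : (R.erase r).card = 2 := by rw [Finset.card_erase_of_mem hr, hRc]
      obtain ⟨s, t, hst, hR'⟩ := Finset.card_eq_two.1 h1
      refine ⟨s, t, ?_, ?_, hst, ?_⟩
      · rintro rfl
        have : r ∈ R.erase r := by rw [hR']; simp
        exact Finset.notMem_erase r R this
      · rintro rfl
        have : r ∈ R.erase r := by rw [hR']; simp
        exact Finset.notMem_erase r R this
      · rw [← Finset.insert_erase hr, hR']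
    have hs2 := he s (by rw [hRR]; simp)
    have ht2 := he t (by rw [hRR]; simp)
    rw [hRR, Finset.sum_insert (by simp [hrs, hrt]), Finset.sum_pair hst] at hsum
    have hr1 := hne r
    have hs1 := hne s
    have ht1 := hne t
    have hallR : ∀ y : X, 4 ≤ Nat.card (stabilizer G y) → Nat.card (stabilizer G s) < 4 →
        Nat.card (stabilizer G t) < 4 → y ∈ orbit G r := by
      intro y hy h5 h6
      obtain ⟨u, hu, hyu, hye⟩ := horb y (by omega)
      rw [hRR, Finset.mem_insert, Finset.mem_insert, Finset.mem_singleton] at hu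
      rcases hu with rfl | rfl | rfl
      · exact hyu
      · omega
      · omega
    have hmul : ∀ (n e c : ℕ), n * e = N → c ≤ e → n * c ≤ N := by
      intro n e c h1 h2
      rw [← h1]; exact Nat.mul_le_mul le_rfl h2
    -- one of `s`, `t` has stabilizer of order two, the other at most three
    have hm := hmul _ _ 4 hr1 hr4
    have hs := hmul _ _ 2 hs1 hs2
    have ht := hmul _ _ 2 ht1 ht2
    have hcase : (Nat.card (stabilizer G s) = 2 ∧ Nat.card (stabilizer G t) ≤ 3) ∨
        (Nat.card (stabilizer G t) = 2 ∧ Nat.card (stabilizer G s) ≤ 3) := by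
      by_contra hcon
      push Not at hcon
      by_cases h5 : Nat.card (stabilizer G s) = 2
      · have h6 := hcon.1 h5
        have := hmul _ _ 4 ht1 h6
        omega
      · by_cases h7 : Nat.card (stabilizer G t) = 2
        · have h6 := hcon.2 h7
          have := hmul _ _ 4 hs1 h6
          omega
        · have h8 := hmul _ _ 3 hs1 (by omega)
          have h9 := hmul _ _ 3 ht1 (by omega)
          omega
    have hs4 : Nat.card (stabilizer G s) < 4 := by omega
    have ht4 : Nat.card (stabilizer G t) < 4 := by omega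
    have hall : ∀ y : X, 4 ≤ Nat.card (stabilizer G y) → y ∈ orbit G r := fun y hy => hallR y hy hs4 ht4
    have hall' : ∀ y : X, 4 ≤ Nat.card (stabilizer G y) → y ∈ orbit G x := by
      intro y hy
      rw [orbit_eq_iff.2 hxr]; exact hall y hy
    rw [hxe, hxorb]
    -- either both are 2, or (2, 3)
    by_cases h22 : Nat.card (stabilizer G s) = 2 ∧ Nat.card (stabilizer G t) = 2
    · left
      rw [h22.1] at hs1
      rw [h22.2] at ht1
      have hr2 : Nat.card (orbit G r) = 2 := by omega
      rw [Nat.card_coe_set_eq, Set.ncard_eq_two] at hr2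
      obtain ⟨a, b, -, hab⟩ := hr2
      refine ⟨a, b, fun y hy => ?_⟩
      have := hall y hy
      rw [hab] at this
      exact this
    · right
      have h23 : 12 * Nat.card (orbit G r) = 2 * N + 24 := by
        rcases hcase with ⟨h5, h6⟩ | ⟨h5, h6⟩
        · have h7 : Nat.card (stabilizer G t) = 3 := by
            have : Nat.card (stabilizer G t) ≠ 2 := fun hc => h22 ⟨h5, hc⟩
            omega
          rw [h5] at hs1
          rw [h7] at ht1
          omega
        · have h7 : Nat.card (stabilizer G s) = 3 := by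
            have : Nat.card (stabilizer G s) ≠ 2 := fun hc => h22 ⟨hc, h5⟩
            omega
          rw [h5] at ht1
          rw [h7] at hs1
          omega
      have hr5 : Nat.card (stabilizer G r) ≤ 5 := by
        by_contra hc
        have := hmul _ _ 6 hr1 (by omega)
        omega
      have hr6 : Nat.card (stabilizer G r) = 4 ∨ Nat.card (stabilizer G r) = 5 := by omega
      rcases hr6 with h8 | h8
      · left
        rw [h8] at hr1 ⊢
        exact ⟨rfl, by omega, hall'⟩
      · right
        rw [h8] at hr1 ⊢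
        exact ⟨rfl, by omega, hall'⟩

/-- No three points with stabilizers of order at least six. -/
theorem false_of_three [Finite G] (h : TwoFixed G X) (x : Fin 3 → X) (hinj : Function.Injective x)
    (hx : ∀ i, 6 ≤ Nat.card (stabilizer G (x i))) : False := by
  have h01 : x 0 ≠ x 1 := fun hc => absurd (hinj hc) (by decide)
  have h02 : x 0 ≠ x 2 := fun hc => absurd (hinj hc) (by decide)
  have h12 : x 1 ≠ x 2 := fun hc => absurd (hinj hc) (by decide)
  have h0 := hx 0
  rcases cases_of_four_le h (x 0) (by omega) with ⟨a, b, hab⟩ | ⟨h1, -⟩ | ⟨h1, -⟩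
  · have h3 := hab (x 0) (by have := hx 0; omega)
    have h4 := hab (x 1) (by have := hx 1; omega)
    have h5 := hab (x 2) (by have := hx 2; omega)
    rcases h3 with h3 | h3 <;> rcases h4 with h4 | h4 <;> rcases h5 with h5 | h5
    · exact h01 (h3.trans h4.symm)
    · exact h01 (h3.trans h4.symm)
    · exact h02 (h3.trans h5.symm)
    · exact h12 (h4.trans h5.symm)
    · exact h12 (h4.trans h5.symm)
    · exact h02 (h3.trans h5.symm)
    · exact h01 (h3.trans h4.symm)
    · exact h01 (h3.trans h4.symm)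
  · omega
  · omega

/-- No seven points with stabilizers of order divisible by four. -/
theorem false_of_seven [Finite G] (h : TwoFixed G X) (x : Fin 7 → X) (hinj : Function.Injective x)
    (hx : ∀ i, 4 ∣ Nat.card (stabilizer G (x i))) : False := by
  have hx4 : ∀ i, 4 ≤ Nat.card (stabilizer G (x i)) := fun i => Nat.le_of_dvd Nat.card_pos (hx i)
  rcases cases_of_four_le h (x 0) (hx4 0) with ⟨a, b, hab⟩ | ⟨-, h1, h2⟩ | ⟨h1, -⟩
  · have h01 : x 0 ≠ x 1 := fun hc => absurd (hinj hc) (by decide)
    have h02 : x 0 ≠ x 2 := fun hc => absurd (hinj hc) (by decide)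
    have h12 : x 1 ≠ x 2 := fun hc => absurd (hinj hc) (by decide)
    have h3 := hab (x 0) (hx4 0)
    have h4 := hab (x 1) (hx4 1)
    have h5 := hab (x 2) (hx4 2)
    rcases h3 with h3 | h3 <;> rcases h4 with h4 | h4 <;> rcases h5 with h5 | h5
    · exact h01 (h3.trans h4.symm)
    · exact h01 (h3.trans h4.symm)
    · exact h02 (h3.trans h5.symm)
    · exact h12 (h4.trans h5.symm)
    · exact h12 (h4.trans h5.symm)
    · exact h02 (h3.trans h5.symm)
    · exact h01 (h3.trans h4.symm)
    · exact h01 (h3.trans h4.symm)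
  · have hfin : Finite (orbit G (x 0)) := Nat.finite_of_card_ne_zero (by omega)
    let f : Fin 7 → orbit G (x 0) := fun i => ⟨x i, h2 (x i) (hx4 i)⟩
    have hf : Function.Injective f := fun i j hij => hinj (congrArg Subtype.val hij)
    have := Nat.card_le_card_of_injective f hf
    rw [Nat.card_eq_fintype_card, Fintype.card_fin, h1] at this
    omega
  · have := hx 0
    omega

end Cfsg.Agent.H275.TwoFix
end

-- part: H275/GLTwoFix
section
set_option autoImplicit false

/-!
# Finite subgroups of `GL₂` of order prime to the characteristic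

Acting on the projective line over an algebraically closed field every element that acts nontrivially has exactly two
fixed points. Consequences for subgroups of `GL₂(p)` containing many elements of the shape
"eigenvalue `lam⁻¹` on a line, determinant `lam`", `lam` a generator of the multiplicative group.
-/

namespace Cfsg.Agent.H275.GLTwoFix

open MulAction Matrix Cfsg.Agent.H275.TwoFix
open scoped OnePoint

section Basic

variable {K : Type*} [Field K] [DecidableEq K]

/-- The entries of the power of a matrix with a double eigenvalue. -/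
theorem pow_of_sq_eq_zero {R : Type*} [CommRing R] {n : Type*} [Fintype n] [DecidableEq n]
    (al : R) (N : Matrix n n R) (hN : N * N = 0) (m : ℕ) :
    (al • (1 : Matrix n n R) + N) ^ (m + 1) =
      (al ^ (m + 1)) • (1 : Matrix n n R) + (((m + 1 : ℕ) : R) * al ^ m) • N := by
  induction m with
  | zero => simp
  | succ m ih =>
    rw [pow_succ, ih]
    simp only [add_mul, mul_add, smul_mul_assoc, mul_smul_comm, one_mul, mul_one, hN, smul_zero,
      add_zero, smul_add, smul_smul]
    rw [add_assoc, ← add_smul]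
    congr 2
    · ring
    · push_cast; ring

/-- A matrix of order prime to the characteristic with a double eigenvalue is scalar. -/
theorem scalar_of_discr_eq_zero {p : ℕ} [hp : Fact p.Prime] [CharP K p] (g : Matrix (Fin 2) (Fin 2) K) (m : ℕ)
    (hm : ¬ p ∣ m) (hgm : g ^ m = 1) (al : K)
    (h : (g - al • (1 : Matrix (Fin 2) (Fin 2) K)) * (g - al • (1 : Matrix (Fin 2) (Fin 2) K)) = 0)
    (hal : al ≠ 0) : g = al • (1 : Matrix (Fin 2) (Fin 2) K) := by
  have hm0 : m ≠ 0 := by rintro rfl; exact hm (dvd_zero p)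
  obtain ⟨k, rfl⟩ := Nat.exists_eq_succ_of_ne_zero hm0
  have h1 := pow_of_sq_eq_zero al _ h k
  rw [add_sub_cancel] at h1
  change g ^ (k + 1) = 1 at hgm
  rw [hgm] at h1
  have hk : ((k + 1 : ℕ) : K) ≠ 0 := by
    rw [ne_eq, CharP.cast_eq_zero_iff K p]; exact hm
  set N := g - al • (1 : Matrix (Fin 2) (Fin 2) K) with hN
  have hsc : ∀ i j, N i j = ((1 - al ^ (k + 1)) / (((k + 1 : ℕ) : K) * al ^ k)) * (1 : Matrix (Fin 2) (Fin 2) K) i j := by
    intro i j
    have h2 := congrFun (congrFun h1 i) j
    simp only [Matrix.add_apply, Matrix.smul_apply, smul_eq_mul] at h2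
    have h3 : (((k + 1 : ℕ) : K) * al ^ k) ≠ 0 := mul_ne_zero hk (pow_ne_zero _ hal)
    rw [div_mul_eq_mul_div, eq_div_iff h3]
    linear_combination -h2
  set c := ((1 - al ^ (k + 1)) / (((k + 1 : ℕ) : K) * al ^ k)) with hc
  have hNc : N = c • (1 : Matrix (Fin 2) (Fin 2) K) := by
    ext i j
    rw [hsc i j]; rfl
  have hc0 : c = 0 := by
    rw [hNc] at h
    have h2 := congrFun (congrFun h 0) 0
    simp at h2
    exact h2
  rw [hc0, zero_smul] at hNc
  rw [← sub_eq_zero, ← hN, hNc]

theorem det_ne (g : GL (Fin 2) K) : g 0 0 * g 1 1 - g 0 1 * g 1 0 ≠ 0 := by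
  have := g.det_ne_zero
  rwa [Matrix.det_fin_two] at this

/-- Scalars act trivially. -/
theorem smul_eq_self_of_scalar (g : GL (Fin 2) K) (h1 : g 1 0 = 0) (h2 : g 0 1 = 0) (h3 : g 0 0 = g 1 1)
    (x : OnePoint K) : g • x = x := by
  have hd := det_ne g
  rw [h1, h2, h3, mul_zero, sub_zero] at hd
  have hd' : g 1 1 ≠ 0 := left_ne_zero_of_mul hd
  cases x with
  | infty => rw [OnePoint.smul_infty_eq_self_iff]; exact h1
  | coe k =>
    rw [OnePoint.smul_some_eq_ite, h1, h2, h3, zero_mul, zero_add, if_neg hd', add_zero,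
      mul_div_assoc, mul_div_cancel₀ _ hd']

/-- An element that acts trivially is scalar. -/
theorem scalar_of_smul_eq_self (g : GL (Fin 2) K) (h : ∀ x : OnePoint K, g • x = x) :
    g 1 0 = 0 ∧ g 0 1 = 0 ∧ g 0 0 = g 1 1 := by
  have h1 : g 1 0 = 0 := OnePoint.smul_infty_eq_self_iff.1 (h ∞)
  have hd := det_ne g
  rw [h1, mul_zero, sub_zero] at hd
  have hd' : g 1 1 ≠ 0 := right_ne_zero_of_mul hd
  have h2 := h ((0 : K) : OnePoint K)
  rw [OnePoint.smul_some_eq_ite, h1, mul_zero, zero_add, if_neg hd', mul_zero, zero_add,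
    OnePoint.coe_eq_coe, div_eq_zero_iff] at h2
  have h2' : g 0 1 = 0 := h2.resolve_right hd'
  have h3 := h ((1 : K) : OnePoint K)
  rw [OnePoint.smul_some_eq_ite, h1, h2', zero_mul, zero_add, if_neg hd', mul_one, add_zero,
    OnePoint.coe_eq_coe, div_eq_one_iff_eq hd'] at h3
  exact ⟨h1, h2', h3⟩

/-- The number of fixed points is two. -/
theorem exists_two_fixed {p : ℕ} [hp : Fact p.Prime] [CharP K p] [IsAlgClosed K] (hp2 : p ≠ 2)
    (g : GL (Fin 2) K) (m : ℕ) (hm : ¬ p ∣ m) (hgm : g ^ m = 1) (hne : ∃ x : OnePoint K, g • x ≠ x) :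
    ∃ x y : OnePoint K, x ≠ y ∧ ∀ z : OnePoint K, g • z = z ↔ z = x ∨ z = y := by
  have h2 : (2 : K) ≠ 0 := by
    have : ((2 : ℕ) : K) ≠ 0 := by
      rw [ne_eq, CharP.cast_eq_zero_iff K p]
      intro hc
      exact hp2 ((Nat.prime_dvd_prime_iff_eq hp.out Nat.prime_two).1 hc)
    exact_mod_cast this
  have hgm' : (g : Matrix (Fin 2) (Fin 2) K) ^ m = 1 := by
    rw [← Units.val_pow_eq_pow_val, hgm, Units.val_one]
  have hd := det_ne g
  set a := g 0 0 with ha
  set b := g 0 1 with hb
  set c := g 1 0 with hc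
  set d := g 1 1 with hdd
  have hfix : ∀ k : K, g • (k : OnePoint K) = k ↔ c * k ^ 2 + (d - a) * k - b = 0 := by
    intro k
    rw [← Matrix.GeneralLinearGroup.fixpointPolynomial_aeval_eq_zero_iff]
    simp [Matrix.GeneralLinearGroup.fixpointPolynomial, ha, hb, hc, hdd]
  -- the discriminant is nonzero
  have hdisc : (d - a) ^ 2 + 4 * b * c ≠ 0 := by
    intro h0
    have hal : (a + d) / 2 ≠ 0 := by
      intro h3
      apply hd
      have h4 : a = -d := by
        rw [div_eq_zero_iff] at h3
        exact eq_neg_of_add_eq_zero_left (h3.resolve_right h2)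
      have h5 : (4 : K) ≠ 0 := by
        have : (4 : K) = 2 * 2 := by norm_num
        rw [this]; exact mul_ne_zero h2 h2
      have h6 : (4 : K) * (a * d - b * c) = 0 := by
        rw [h4] at h0 ⊢
        linear_combination -h0
      exact (mul_eq_zero.1 h6).resolve_left h5
    have hsq : ((g : Matrix (Fin 2) (Fin 2) K) - ((a + d) / 2) • (1 : Matrix (Fin 2) (Fin 2) K)) *
        ((g : Matrix (Fin 2) (Fin 2) K) - ((a + d) / 2) • (1 : Matrix (Fin 2) (Fin 2) K)) = 0 := by
      ext i j
      rw [Matrix.mul_apply, Fin.sum_univ_two]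
      fin_cases i <;> fin_cases j <;>
        simp [Matrix.sub_apply, Matrix.smul_apply, ← ha, ← hb, ← hc, ← hdd] <;>
        field_simp <;> first | linear_combination h0 | ring
    have hs := scalar_of_discr_eq_zero (g : Matrix (Fin 2) (Fin 2) K) m hm hgm' _ hsq hal
    obtain ⟨x, hx⟩ := hne
    apply hx
    apply smul_eq_self_of_scalar
    · have := congrFun (congrFun hs 1) 0
      simpa using this
    · have := congrFun (congrFun hs 0) 1
      simpa using this
    · have e1 := congrFun (congrFun hs 0) 0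
      have e2 := congrFun (congrFun hs 1) 1
      simp at e1 e2
      exact e1.trans e2.symm
  by_cases hc0 : c = 0
  · have had : d - a ≠ 0 := by
      intro h3
      apply hdisc
      rw [hc0, h3]; ring
    refine ⟨∞, ((b / (d - a) : K) : OnePoint K), (OnePoint.infty_ne_coe _), fun z => ?_⟩
    cases z with
    | infty =>
      constructor
      · intro _; exact Or.inl rfl
      · intro _; rw [OnePoint.smul_infty_eq_self_iff]; exact hc0
    | coe k =>
      rw [hfix, hc0, OnePoint.coe_eq_coe]
      constructor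
      · intro h3
        right
        rw [eq_div_iff had]
        linear_combination h3
      · rintro (h3 | h3)
        · exact absurd h3 (OnePoint.coe_ne_infty _)
        · rw [h3]; field_simp; ring
  · obtain ⟨s, hs⟩ := IsAlgClosed.exists_pow_nat_eq ((d - a) ^ 2 + 4 * b * c) (n := 2) (by norm_num)
    have hs0 : s ≠ 0 := by
      rintro rfl
      apply hdisc
      rw [← hs]; ring
    refine ⟨(((a - d + s) / (2 * c) : K) : OnePoint K), (((a - d - s) / (2 * c) : K) : OnePoint K), ?_,
      fun z => ?_⟩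
    · rw [ne_eq, OnePoint.coe_eq_coe]
      intro h3
      apply hs0
      field_simp at h3
      have h4 : (2 : K) * s = 0 := by linear_combination h3
      exact (mul_eq_zero.1 h4).resolve_left h2
    · cases z with
      | infty =>
        constructor
        · intro h3
          exact absurd (OnePoint.smul_infty_eq_self_iff.1 h3) hc0
        · rintro (h3 | h3)
          · exact absurd h3 (OnePoint.infty_ne_coe _)
          · exact absurd h3 (OnePoint.infty_ne_coe _)
      | coe k =>
        rw [hfix, OnePoint.coe_eq_coe, OnePoint.coe_eq_coe]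
        have h4 : 4 * c * (c * k ^ 2 + (d - a) * k - b) =
            (2 * c * k - (a - d + s)) * (2 * c * k - (a - d - s)) := by
          linear_combination hs
        have h5 : (4 : K) * c ≠ 0 := by
          have : (4 : K) = 2 * 2 := by norm_num
          rw [this]; exact mul_ne_zero (mul_ne_zero h2 h2) hc0
        have h6 : (2 : K) * c ≠ 0 := mul_ne_zero h2 hc0
        constructor
        · intro h3
          rw [h3, mul_zero] at h4
          rcases mul_eq_zero.1 h4.symm with h7 | h7
          · left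
            rw [eq_div_iff h6]
            linear_combination h7
          · right
            rw [eq_div_iff h6]
            linear_combination h7
        · rintro (h3 | h3)
          · have h7 : (2 * c * k - (a - d + s)) = 0 := by
              rw [h3]; field_simp; ring
            rw [h7, zero_mul] at h4
            exact (mul_eq_zero.1 h4).resolve_left h5
          · have h7 : (2 * c * k - (a - d - s)) = 0 := by
              rw [h3]; field_simp; ring
            rw [h7, mul_zero] at h4
            exact (mul_eq_zero.1 h4).resolve_left h5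

/-- The image in the group of permutations of the projective line. -/
def imgPerm (L : Subgroup (GL (Fin 2) K)) : Subgroup (Equiv.Perm (OnePoint K)) :=
  L.map (MulAction.toPermHom (GL (Fin 2) K) (OnePoint K))

theorem twoFixed {p : ℕ} [hp : Fact p.Prime] [CharP K p] [IsAlgClosed K] (hp2 : p ≠ 2)
    (L : Subgroup (GL (Fin 2) K)) [Finite L] (hL : ¬ p ∣ Nat.card L) : TwoFixed (imgPerm L) (OnePoint K) := by
  rintro ⟨_, g, hg, rfl⟩ hne
  have h1 : g ^ Nat.card L = 1 := by
    have : (⟨g, hg⟩ : L) ^ Nat.card L = 1 := pow_card_eq_one'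
    exact congrArg Subtype.val this
  have h2 : ∃ x : OnePoint K, g • x ≠ x := by
    by_contra hcon
    push Not at hcon
    apply hne
    apply Subtype.ext
    ext x
    exact hcon x
  obtain ⟨x, y, hxy, h3⟩ := exists_two_fixed hp2 g _ hL h1 h2
  exact ⟨x, y, hxy, h3⟩

end Basic

section Prime

variable {p : ℕ} [hp : Fact p.Prime]

/-- The algebraic closure of the prime field. -/
abbrev KK (p : ℕ) [Fact p.Prime] : Type := AlgebraicClosure (ZMod p)

noncomputable instance decEqKK : DecidableEq (KK p) := Classical.decEq _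

/-- The point of the projective line over the algebraic closure defined by a nonzero vector over the prime
field. -/
noncomputable def pt (v : Fin 2 → ZMod p) (hv : v ≠ 0) : OnePoint (KK p) :=
  OnePoint.map (algebraMap (ZMod p) (KK p)) ((OnePoint.equivProjectivization (ZMod p)).symm
    (Projectivization.mk (ZMod p) v hv))

theorem pt_eq_iff {v w : Fin 2 → ZMod p} (hv : v ≠ 0) (hw : w ≠ 0) :
    pt v hv = pt w hw ↔ ∃ c : ZMod p, c • w = v := by
  have hinj : Function.Injective (OnePoint.map (algebraMap (ZMod p) (KK p))) := by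
    apply Option.map_injective
    exact (algebraMap (ZMod p) (KK p)).injective
  unfold pt
  rw [hinj.eq_iff, (OnePoint.equivProjectivization (ZMod p)).symm.injective.eq_iff,
    Projectivization.mk_eq_mk_iff']

/-- The base change to the algebraic closure. -/
noncomputable def bc (p : ℕ) [Fact p.Prime] : GL (Fin 2) (ZMod p) →* GL (Fin 2) (KK p) :=
  Matrix.GeneralLinearGroup.map (algebraMap (ZMod p) (KK p))

theorem bc_apply (g : GL (Fin 2) (ZMod p)) (i j : Fin 2) : bc p g i j = algebraMap (ZMod p) (KK p) (g i j) := rfl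

theorem bc_smul_pt (g : GL (Fin 2) (ZMod p)) {v : Fin 2 → ZMod p} (hv : v ≠ 0) {c : ZMod p}
    (h : (g : Matrix (Fin 2) (Fin 2) (ZMod p)) *ᵥ v = c • v) : bc p g • pt v hv = pt v hv := by
  unfold pt bc
  rw [← OnePoint.map_smul]
  congr 1
  apply (OnePoint.equivProjectivization (ZMod p)).injective
  rw [OnePoint.equivProjectivization_smul, Equiv.apply_symm_apply]
  have hgv : g • v = c • v := by
    rw [← h]; rfl
  have hgv0 : g • v ≠ 0 := by
    intro h0
    apply hv
    have : g⁻¹ • (g • v) = 0 := by rw [h0, smul_zero]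
    rwa [inv_smul_smul] at this
  rw [Projectivization.smul_mk, Projectivization.mk_eq_mk_iff']
  exact ⟨c, hgv.symm⟩

/-- If a power of `g` acts trivially, then it is scalar. -/
theorem scalar_of_bc_pow (g : GL (Fin 2) (ZMod p)) (h : ∀ x : OnePoint (KK p), bc p g • x = x) :
    g 1 0 = 0 ∧ g 0 1 = 0 ∧ g 0 0 = g 1 1 := by
  obtain ⟨h1, h2, h3⟩ := scalar_of_smul_eq_self _ h
  have hinj := (algebraMap (ZMod p) (KK p)).injective
  refine ⟨hinj ?_, hinj ?_, hinj ?_⟩
  · rw [map_zero]; exact h1
  · rw [map_zero]; exact h2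
  · exact h3

/-- The key arithmetic: if `g` has eigenvalue `lam⁻¹` and determinant `lam`, and `g ^ k` is scalar, then
`lam ^ (3 * k) = 1`. -/
theorem pow_eq_one_of_scalar (g : GL (Fin 2) (ZMod p)) {v : Fin 2 → ZMod p} (hv : v ≠ 0) (lam : (ZMod p)ˣ)
    (h : (g : Matrix (Fin 2) (Fin 2) (ZMod p)) *ᵥ v = ((lam⁻¹ : (ZMod p)ˣ) : ZMod p) • v)
    (hdet : (g : Matrix (Fin 2) (Fin 2) (ZMod p)).det = lam) (k : ℕ)
    (hk : (g ^ k) 1 0 = 0 ∧ (g ^ k) 0 1 = 0 ∧ (g ^ k) 0 0 = (g ^ k) 1 1) : lam ^ (3 * k) = 1 := by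
  obtain ⟨h1, h2, h3⟩ := hk
  have hpow : ∀ n : ℕ, ((g ^ n : GL (Fin 2) (ZMod p)) : Matrix (Fin 2) (Fin 2) (ZMod p)) *ᵥ v =
      (((lam⁻¹) ^ n : (ZMod p)ˣ) : ZMod p) • v := by
    intro n
    induction n with
    | zero => simp
    | succ n ih =>
      rw [pow_succ, Units.val_mul, ← Matrix.mulVec_mulVec, h, Matrix.mulVec_smul, ih, smul_smul, pow_succ,
        Units.val_mul, mul_comm]
  have hk1 := hpow k
  have hkd : ((g ^ k : GL (Fin 2) (ZMod p)) : Matrix (Fin 2) (Fin 2) (ZMod p)).det = ((lam ^ k : (ZMod p)ˣ) : ZMod p) := by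
    rw [Units.val_pow_eq_pow_val, Matrix.det_pow, hdet, Units.val_pow_eq_pow_val]
  set M := ((g ^ k : GL (Fin 2) (ZMod p)) : Matrix (Fin 2) (Fin 2) (ZMod p)) with hM
  change M 1 0 = 0 at h1
  change M 0 1 = 0 at h2
  change M 0 0 = M 1 1 at h3
  have hal : M 1 1 = (((lam⁻¹) ^ k : (ZMod p)ˣ) : ZMod p) := by
    have e0 := congrFun hk1 0
    have e1 := congrFun hk1 1
    simp only [Matrix.mulVec_fin_two, Pi.smul_apply, smul_eq_mul, h1, h2, h3, zero_mul, add_zero, zero_add,
      Matrix.cons_val_zero, Matrix.cons_val_one] at e0 e1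
    by_cases hv0 : v 0 = 0
    · have hv1 : v 1 ≠ 0 := by
        intro hv1
        apply hv
        ext i
        fin_cases i
        · exact hv0
        · exact hv1
      exact mul_right_cancel₀ hv1 e1
    · exact mul_right_cancel₀ hv0 e0
  rw [Matrix.det_fin_two, h1, h3, mul_zero, sub_zero, hal, ← Units.val_mul, Units.val_inj] at hkd
  have h5 : lam ^ (3 * k) = lam ^ k * lam ^ k * lam ^ k := by rw [← pow_add, ← pow_add]; congr 1; ring
  rw [h5]
  rw [inv_pow] at hkd
  generalize lam ^ k = t at hkd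
  calc t * t * t = (t⁻¹ * t⁻¹) * t * t := by rw [hkd]
    _ = 1 := by group

theorem finite_map {A B : Type*} [Group A] [Group B] (f : A →* B) (L : Subgroup A) [Finite L] :
    Finite (L.map f) := by
  have h : Set.Finite (f '' (L : Set A)) := Set.Finite.image _ (Set.toFinite _)
  exact h.to_subtype

theorem finite_map_bc (L : Subgroup (GL (Fin 2) (ZMod p))) : Finite (L.map (bc p)) := finite_map _ _

theorem finite_imgPerm (L : Subgroup (GL (Fin 2) (ZMod p))) : Finite (imgPerm (L.map (bc p))) := by
  have := finite_map_bc L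
  exact finite_map _ _

/-- The order of the point stabilizer. -/
theorem dvd_card_stabilizer (L : Subgroup (GL (Fin 2) (ZMod p))) (lam : (ZMod p)ˣ)
    (hlam : ∀ u : (ZMod p)ˣ, u ∈ Subgroup.zpowers lam) {v : Fin 2 → ZMod p} (hv : v ≠ 0)
    (h : ∃ g ∈ L, (g : Matrix (Fin 2) (Fin 2) (ZMod p)) *ᵥ v = ((lam⁻¹ : (ZMod p)ˣ) : ZMod p) • v ∧
      (g : Matrix (Fin 2) (Fin 2) (ZMod p)).det = lam) :
    p - 1 ∣ 3 * Nat.card (stabilizer (imgPerm (L.map (bc p))) (pt v hv)) := by
  obtain ⟨g, hg, hgv, hgd⟩ := h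
  have := finite_map_bc L
  have := finite_imgPerm L
  let ga : imgPerm (L.map (bc p)) :=
    ⟨MulAction.toPermHom (GL (Fin 2) (KK p)) (OnePoint (KK p)) (bc p g), ⟨bc p g, ⟨g, hg, rfl⟩, rfl⟩⟩
  have hga : ga ∈ stabilizer (imgPerm (L.map (bc p))) (pt v hv) := bc_smul_pt g hv hgv
  let gs : stabilizer (imgPerm (L.map (bc p))) (pt v hv) := ⟨ga, hga⟩
  have h1 : orderOf gs ∣ Nat.card (stabilizer (imgPerm (L.map (bc p))) (pt v hv)) := orderOf_dvd_natCard gs
  have h2 : lam ^ (3 * orderOf gs) = 1 := by
    apply pow_eq_one_of_scalar g hv lam hgv hgd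
    apply scalar_of_bc_pow
    intro x
    have h3 : gs ^ orderOf gs = 1 := pow_orderOf_eq_one gs
    have h4 : (MulAction.toPermHom (GL (Fin 2) (KK p)) (OnePoint (KK p)) (bc p g)) ^ orderOf gs = 1 :=
      congrArg (fun t : stabilizer (imgPerm (L.map (bc p))) (pt v hv) =>
        ((t : imgPerm (L.map (bc p))) : Equiv.Perm (OnePoint (KK p)))) h3
    rw [← map_pow, ← map_pow] at h4
    have h5 := congrArg (fun f : Equiv.Perm (OnePoint (KK p)) => f x) h4
    exact h5
  have h3 : orderOf lam = p - 1 := by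
    rw [orderOf_eq_card_of_forall_mem_zpowers hlam, Nat.card_eq_fintype_card, ZMod.card_units]
  rw [← h3]
  exact (orderOf_dvd_of_pow_eq_one h2).trans (Nat.mul_dvd_mul_left 3 h1)

theorem not_dvd_card_map {L : Subgroup (GL (Fin 2) (ZMod p))} (hL : ¬ p ∣ Nat.card L) :
    ¬ p ∣ Nat.card (L.map (bc p)) := by
  intro h
  apply hL
  exact h.trans (Subgroup.card_map_dvd _ _)

/-- **Three lines**: with three lines, `p ≤ 13` and `p ≠ 11`. -/
theorem three_lines (hp2 : p ≠ 2) (L : Subgroup (GL (Fin 2) (ZMod p))) (hL : ¬ p ∣ Nat.card L) (lam : (ZMod p)ˣ)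
    (hlam : ∀ u : (ZMod p)ˣ, u ∈ Subgroup.zpowers lam) (v : Fin 3 → Fin 2 → ZMod p) (hv : ∀ i, v i ≠ 0)
    (hdist : ∀ i j, i ≠ j → ∀ c : ZMod p, c • v j ≠ v i)
    (h : ∀ i, ∃ g ∈ L, (g : Matrix (Fin 2) (Fin 2) (ZMod p)) *ᵥ v i = ((lam⁻¹ : (ZMod p)ˣ) : ZMod p) • v i ∧
      (g : Matrix (Fin 2) (Fin 2) (ZMod p)).det = lam) : p ≤ 13 ∧ p ≠ 11 := by
  have := finite_map_bc L
  have := finite_imgPerm L
  have htf := twoFixed hp2 (L.map (bc p)) (not_dvd_card_map hL)
  have hinj : Function.Injective (fun i => pt (v i) (hv i)) := by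
    intro i j hij
    by_contra hne
    obtain ⟨c, hc⟩ := (pt_eq_iff (hv i) (hv j)).1 hij
    exact hdist i j hne c hc
  have hst : ∀ i, p - 1 ∣ 3 * Nat.card (stabilizer (imgPerm (L.map (bc p))) (pt (v i) (hv i))) :=
    fun i => dvd_card_stabilizer L lam hlam (hv i) (h i)
  have hpos : ∀ i, 0 < Nat.card (stabilizer (imgPerm (L.map (bc p))) (pt (v i) (hv i))) :=
    fun i => Nat.card_pos
  constructor
  · by_contra hcon
    push Not at hcon
    apply false_of_three htf _ hinj
    intro i
    have h1 := Nat.le_of_dvd (by have := hpos i; omega) (hst i)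
    have h2 : 17 ≤ p := by
      by_contra h3
      push Not at h3
      have h4 := hp.out
      interval_cases p <;> revert h4 <;> decide
    change 6 ≤ Nat.card (stabilizer (imgPerm (L.map (bc p))) (pt (v i) (hv i)))
    omega
  · rintro rfl
    apply false_of_three htf _ hinj
    intro i
    change 6 ≤ Nat.card (stabilizer (imgPerm (L.map (bc 11))) (pt (v i) (hv i)))
    have h1 := hst i
    have h2 : 10 ∣ Nat.card (stabilizer (imgPerm (L.map (bc 11))) (pt (v i) (hv i))) :=
      (Nat.Coprime.dvd_mul_left (by norm_num)).1 h1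
    have h3 := Nat.le_of_dvd (hpos i) h2
    omega

/-- **Seven lines**: with seven lines, `p ≠ 13`. -/
theorem seven_lines (hp2 : p ≠ 2) (L : Subgroup (GL (Fin 2) (ZMod p))) (hL : ¬ p ∣ Nat.card L) (lam : (ZMod p)ˣ)
    (hlam : ∀ u : (ZMod p)ˣ, u ∈ Subgroup.zpowers lam) (v : Fin 7 → Fin 2 → ZMod p) (hv : ∀ i, v i ≠ 0)
    (hdist : ∀ i j, i ≠ j → ∀ c : ZMod p, c • v j ≠ v i)
    (h : ∀ i, ∃ g ∈ L, (g : Matrix (Fin 2) (Fin 2) (ZMod p)) *ᵥ v i = ((lam⁻¹ : (ZMod p)ˣ) : ZMod p) • v i ∧
      (g : Matrix (Fin 2) (Fin 2) (ZMod p)).det = lam) : p ≠ 13 := by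
  rintro rfl
  have := finite_map_bc L
  have := finite_imgPerm L
  have htf := twoFixed hp2 (L.map (bc 13)) (not_dvd_card_map hL)
  have hinj : Function.Injective (fun i => pt (v i) (hv i)) := by
    intro i j hij
    by_contra hne
    obtain ⟨c, hc⟩ := (pt_eq_iff (hv i) (hv j)).1 hij
    exact hdist i j hne c hc
  apply false_of_seven htf _ hinj
  intro i
  have h1 := dvd_card_stabilizer L lam hlam (hv i) (h i)
  have h2 : 3 * 4 ∣ 3 * Nat.card (stabilizer (imgPerm (L.map (bc 13))) (pt (v i) (hv i))) := h1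
  exact (Nat.mul_dvd_mul_iff_left (by norm_num)).1 h2

end Prime

end Cfsg.Agent.H275.GLTwoFix
end
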