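import Mathlib
import Cfsg.Prelude.Def_Transfer
set_option linter.all false

set_option autoImplicit false
set_option linter.unusedSectionVars false

/-!
# Extraspecial groups of order `p³` and exponent `p`: the action on `P / Z(P)`

`HData p P`: a nonabelian group of order `p ^ 3` and exponent `p` with a chosen noncommuting pair.
`HData.pi`: the homomorphism onto `(ZMod p)²` with kernel the centre.
`HData.rep`: the representation of `MulAut P` on `(ZMod p)²`, whose determinant is the action on the centre.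
-/

namespace Cfsg.Agent.H275.Heis

section Pw

variable {P : Type*} [Group P] {p : ℕ} [hp : Fact p.Prime]

/-- The power with exponent in `ZMod p` (for elements with `x ^ p = 1`). -/
def pw (x : P) (k : ZMod p) : P := x ^ k.val

theorem pw_natCast {x : P} (hx : x ^ p = 1) (n : ℕ) : pw x (n : ZMod p) = x ^ n := by
  unfold pw
  rw [ZMod.val_natCast, ← pow_eq_pow_mod n hx]

theorem pw_zero (x : P) : pw x (0 : ZMod p) = 1 := by
  unfold pw; rw [ZMod.val_zero, pow_zero]

theorem pw_one {x : P} : pw x (1 : ZMod p) = x := by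
  unfold pw
  have : Fact (1 < p) := ⟨hp.out.one_lt⟩
  rw [ZMod.val_one, pow_one]

theorem pw_add {x : P} (hx : x ^ p = 1) (a b : ZMod p) : pw x (a + b) = pw x a * pw x b := by
  unfold pw
  rw [ZMod.val_add, ← pow_eq_pow_mod _ hx, pow_add]

theorem pw_mul {x : P} (hx : x ^ p = 1) (a b : ZMod p) : pw x (a * b) = pw (pw x a) b := by
  unfold pw
  rw [ZMod.val_mul, ← pow_eq_pow_mod _ hx, pow_mul]

theorem pw_neg {x : P} (hx : x ^ p = 1) (a : ZMod p) : pw x (-a) = (pw x a)⁻¹ := by
  rw [eq_inv_iff_mul_eq_one, ← pw_add hx, neg_add_cancel, pw_zero]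

theorem pw_sub {x : P} (hx : x ^ p = 1) (a b : ZMod p) : pw x (a - b) = pw x a * (pw x b)⁻¹ := by
  rw [sub_eq_add_neg, pw_add hx, pw_neg hx]

theorem pw_pow_p {x : P} (hx : x ^ p = 1) (a : ZMod p) : (pw x a) ^ p = 1 := by
  unfold pw
  rw [← pow_mul, mul_comm, pow_mul, hx, one_pow]

theorem one_pw (a : ZMod p) : pw (1 : P) a = 1 := by unfold pw; rw [one_pow]

theorem pw_mem {H : Subgroup P} {x : P} (hx : x ∈ H) (a : ZMod p) : pw x a ∈ H := H.pow_mem hx _

theorem pw_commute {x y : P} (h : Commute x y) (a b : ZMod p) : Commute (pw x a) (pw y b) := h.pow_pow _ _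

theorem map_pw {Q : Type*} [Group Q] (f : P →* Q) (x : P) (a : ZMod p) : f (pw x a) = pw (f x) a := by
  unfold pw; rw [map_pow]

theorem conj_pw (g x : P) (a : ZMod p) : g * pw x a * g⁻¹ = pw (g * x * g⁻¹) a := by
  unfold pw; rw [conj_pow]

theorem mul_pw {x y : P} (h : Commute x y) (a : ZMod p) : pw (x * y) a = pw x a * pw y a := by
  unfold pw; rw [h.mul_pow]

theorem pw_eq_one_iff {x : P} (hx : x ^ p = 1) (hx1 : x ≠ 1) {a : ZMod p} : pw x a = 1 ↔ a = 0 := by
  constructor
  · intro h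
    unfold pw at h
    have h1 := orderOf_dvd_of_pow_eq_one h
    rw [orderOf_eq_prime hx hx1] at h1
    have h2 := ZMod.val_lt a
    have h3 : a.val = 0 := Nat.eq_zero_of_dvd_of_lt h1 h2
    exact (ZMod.val_eq_zero a).1 h3
  · rintro rfl; exact pw_zero x

theorem pw_inj {x : P} (hx : x ^ p = 1) (hx1 : x ≠ 1) {a b : ZMod p} : pw x a = pw x b ↔ a = b := by
  constructor
  · intro h
    rw [← sub_eq_zero, ← pw_eq_one_iff hx hx1, pw_sub hx, h, mul_inv_cancel]
  · rintro rfl; rfl

theorem exists_pw_of_mem_zpowers {x y : P} (hx : x ^ p = 1) (hy : y ∈ Subgroup.zpowers x) :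
    ∃ a : ZMod p, y = pw x a := by
  obtain ⟨n, rfl⟩ := hy
  refine ⟨(n : ZMod p), ?_⟩
  change x ^ n = _
  have hp0 : (p : ℤ) ≠ 0 := by exact_mod_cast hp.out.ne_zero
  have h1 : x ^ n = x ^ (n % (p : ℤ)) := by
    conv_lhs => rw [← Int.emod_add_mul_ediv n p]
    rw [zpow_add, zpow_mul, zpow_natCast, hx, one_zpow, mul_one]
  have h2 : 0 ≤ n % (p : ℤ) := Int.emod_nonneg n hp0
  obtain ⟨m, hm⟩ := Int.eq_ofNat_of_zero_le h2
  rw [h1, hm, zpow_natCast, ← pw_natCast hx]
  congr 1
  have h3 : ((n % (p : ℤ) : ℤ) : ZMod p) = (n : ZMod p) := ZMod.intCast_mod n p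
  rw [← h3, hm]
  simp

end Pw

/-- A nonabelian group of order `p ^ 3` and exponent `p` with a chosen noncommuting pair. -/
structure HData (p : ℕ) (P : Type*) [Group P] where
  x0 : P
  y0 : P
  z : P
  hz : x0 * y0 * x0⁻¹ * y0⁻¹ = z
  pow_p : ∀ w : P, w ^ p = 1
  z_ne : z ≠ 1
  center_eq : Subgroup.center P = Subgroup.zpowers z
  comm_mem : ∀ u v : P, u * v * u⁻¹ * v⁻¹ ∈ Subgroup.center P
  card_eq : Nat.card P = p ^ 3

theorem exists_hData {p : ℕ} [hp : Fact p.Prime] {P : Type*} [Group P] (hE : Cfsg.IsExtraspecial p P)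
    (hcard : Nat.card P = p ^ 3) (hexp : Monoid.exponent P = p) : Nonempty (HData p P) := by
  have hfin : Finite P := Nat.finite_of_card_ne_zero (by rw [hcard]; exact (pow_pos hp.out.pos 3).ne')
  obtain ⟨⟨hP, -, hcomm⟩, hZ⟩ := hE
  have hmem : ∀ u v : P, u * v * u⁻¹ * v⁻¹ ∈ Subgroup.center P := by
    intro u v
    rw [← hcomm]
    exact Subgroup.commutator_mem_commutator (Subgroup.mem_top u) (Subgroup.mem_top v)
  have hne : ∃ x y : P, x * y * x⁻¹ * y⁻¹ ≠ 1 := by
    by_contra hcon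
    push Not at hcon
    have htop : Subgroup.center P = ⊤ := by
      rw [Subgroup.eq_top_iff']
      intro x
      rw [Subgroup.mem_center_iff]
      intro y
      have h1 := hcon y x
      have : y * x = (y * x * y⁻¹ * x⁻¹) * (x * y) := by group
      rw [this, h1, one_mul]
    rw [htop, Subgroup.card_top, hcard] at hZ
    have h1 : p ^ 1 < p ^ 3 := Nat.pow_lt_pow_right hp.out.one_lt (by norm_num)
    rw [pow_one] at h1
    omega
  obtain ⟨x, y, hxy⟩ := hne
  have hpow : ∀ w : P, w ^ p = 1 := fun w => by rw [← hexp]; exact Monoid.pow_exponent_eq_one w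
  refine ⟨⟨x, y, x * y * x⁻¹ * y⁻¹, rfl, hpow, hxy, ?_, hmem, hcard⟩⟩
  symm
  apply Subgroup.eq_of_le_of_card_ge
  · rw [Subgroup.zpowers_le]; exact hmem x y
  · rw [hZ, Nat.card_zpowers, orderOf_eq_prime (hpow _) hxy]

namespace HData

variable {P : Type*} [Group P] {p : ℕ} [hp : Fact p.Prime] (D : HData p P)

theorem z_mem : D.z ∈ Subgroup.center P := by rw [D.center_eq]; exact Subgroup.mem_zpowers _

theorem commute_z (w : P) : Commute D.z w := (Subgroup.mem_center_iff.1 D.z_mem w).symm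

theorem exists_c (u v : P) : ∃ k : ZMod p, u * v * u⁻¹ * v⁻¹ = pw D.z k := by
  have h := D.comm_mem u v
  rw [D.center_eq] at h
  exact exists_pw_of_mem_zpowers (D.pow_p _) h

/-- The commutator pairing. -/
noncomputable def c (u v : P) : ZMod p := Classical.choose (D.exists_c u v)

theorem c_spec (u v : P) : u * v * u⁻¹ * v⁻¹ = pw D.z (D.c u v) := Classical.choose_spec (D.exists_c u v)

theorem c_eq_iff {u v : P} {k : ZMod p} : D.c u v = k ↔ u * v * u⁻¹ * v⁻¹ = pw D.z k := by
  rw [D.c_spec, pw_inj (D.pow_p _) D.z_ne]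

theorem conj_eq (u v : P) : u * v * u⁻¹ = pw D.z (D.c u v) * v := by
  rw [← D.c_spec]; group

theorem c_mul_left (u u' v : P) : D.c (u * u') v = D.c u v + D.c u' v := by
  rw [c_eq_iff]
  have h1 := D.conj_eq u v
  have h2 := D.conj_eq u' v
  have h3 : u * u' * v * (u * u')⁻¹ * v⁻¹ = u * (u' * v * u'⁻¹) * u⁻¹ * v⁻¹ := by group
  have h4 : Commute (pw D.z (D.c u' v)) u := (D.commute_z u).pow_left _
  rw [h3, h2]
  have h5 : u * (pw D.z (D.c u' v) * v) * u⁻¹ * v⁻¹ = pw D.z (D.c u' v) * (u * v * u⁻¹) * v⁻¹ := by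
    rw [← mul_assoc u, ← h4.eq]; group
  rw [h5, h1, pw_add (D.pow_p _)]
  have h6 : Commute (pw D.z (D.c u' v)) (pw D.z (D.c u v)) := pw_commute (Commute.refl _) _ _
  calc pw D.z (D.c u' v) * (pw D.z (D.c u v) * v) * v⁻¹ = pw D.z (D.c u' v) * pw D.z (D.c u v) := by group
    _ = _ := h6.eq

theorem c_self (u : P) : D.c u u = 0 := by
  rw [c_eq_iff, pw_zero]; group

theorem c_swap (u v : P) : D.c v u = - D.c u v := by
  rw [c_eq_iff, pw_neg (D.pow_p _), ← D.c_spec]; group

theorem c_mul_right (u v v' : P) : D.c u (v * v') = D.c u v + D.c u v' := by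
  rw [D.c_swap (v * v') u, D.c_mul_left, D.c_swap u v, D.c_swap u v']; ring

theorem c_eq_zero_iff {u v : P} : D.c u v = 0 ↔ Commute u v := by
  rw [c_eq_iff, pw_zero]
  constructor
  · intro h
    have : u * v = (u * v * u⁻¹ * v⁻¹) * (v * u) := by group
    show u * v = v * u
    rw [this, h, one_mul]
  · intro h
    rw [h.eq]; group

theorem c_one_left (v : P) : D.c 1 v = 0 := D.c_eq_zero_iff.2 (Commute.one_left v)

theorem c_pow_left (u v : P) (n : ℕ) : D.c (u ^ n) v = n * D.c u v := by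
  induction n with
  | zero => rw [pow_zero, D.c_one_left]; simp
  | succ n ih => rw [pow_succ, D.c_mul_left, ih]; push_cast; ring

theorem c_pw_left (u v : P) (k : ZMod p) : D.c (pw u k) v = k * D.c u v := by
  unfold pw
  rw [D.c_pow_left, ZMod.natCast_val, ZMod.cast_id', id]

theorem c_pw_right (u v : P) (k : ZMod p) : D.c u (pw v k) = k * D.c u v := by
  rw [D.c_swap (pw v k) u, D.c_pw_left, D.c_swap u v]; ring

theorem c_z_left (v : P) : D.c D.z v = 0 := D.c_eq_zero_iff.2 (D.commute_z v)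

theorem c_x0_y0 : D.c D.x0 D.y0 = 1 := by rw [c_eq_iff, pw_one, D.hz]

/-- The coordinates modulo the centre. -/
noncomputable def pi (w : P) : Fin 2 → ZMod p := ![D.c w D.y0, D.c D.x0 w]

theorem pi_zero_apply (w : P) : D.pi w 0 = D.c w D.y0 := rfl
theorem pi_one_apply (w : P) : D.pi w 1 = D.c D.x0 w := rfl

theorem pi_mul (u v : P) : D.pi (u * v) = D.pi u + D.pi v := by
  ext i
  fin_cases i
  · exact D.c_mul_left u v _
  · exact D.c_mul_right _ u v

theorem pi_one : D.pi 1 = 0 := by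
  have h := D.pi_mul 1 1
  rw [one_mul] at h
  exact left_eq_add.1 h

theorem pi_pw (u : P) (k : ZMod p) : D.pi (pw u k) = k • D.pi u := by
  ext i
  fin_cases i
  · exact D.c_pw_left u _ k
  · exact D.c_pw_right _ u k

theorem pi_x0 : D.pi D.x0 = ![1, 0] := by
  ext i
  fin_cases i
  · exact D.c_x0_y0
  · exact D.c_self _

theorem pi_y0 : D.pi D.y0 = ![0, 1] := by
  ext i
  fin_cases i
  · exact D.c_self _
  · exact D.c_x0_y0

theorem pi_lift (v : Fin 2 → ZMod p) : D.pi (pw D.x0 (v 0) * pw D.y0 (v 1)) = v := by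
  rw [D.pi_mul, D.pi_pw, D.pi_pw, D.pi_x0, D.pi_y0]
  ext i
  fin_cases i <;> simp

/-- The coordinates as a homomorphism. -/
noncomputable def piHom : P →* Multiplicative (Fin 2 → ZMod p) where
  toFun w := Multiplicative.ofAdd (D.pi w)
  map_one' := by rw [D.pi_one]; rfl
  map_mul' u v := by rw [D.pi_mul]; rfl

theorem pi_eq_zero_iff {w : P} : D.pi w = 0 ↔ w ∈ Subgroup.center P := by
  have hfin : Finite P := Nat.finite_of_card_ne_zero (by rw [D.card_eq]; exact (pow_pos hp.out.pos 3).ne')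
  have hle : Subgroup.center P ≤ D.piHom.ker := by
    intro w hw
    rw [MonoidHom.mem_ker]
    have : D.pi w = 0 := by
      ext i
      fin_cases i
      · exact D.c_eq_zero_iff.2 (Subgroup.mem_center_iff.1 hw _).symm
      · exact D.c_eq_zero_iff.2 (Subgroup.mem_center_iff.1 hw _)
    change Multiplicative.ofAdd (D.pi w) = 1
    rw [this]; rfl
  have hsurj : Function.Surjective D.piHom := by
    intro v
    refine ⟨pw D.x0 (Multiplicative.toAdd v 0) * pw D.y0 (Multiplicative.toAdd v 1), ?_⟩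
    change Multiplicative.ofAdd (D.pi _) = v
    rw [D.pi_lift]; rfl
  have hcardV : Nat.card (Multiplicative (Fin 2 → ZMod p)) = p ^ 2 := by
    rw [Nat.card_congr Multiplicative.toAdd, Nat.card_pi]
    simp
  have hker : Nat.card D.piHom.ker * p ^ 2 = p ^ 3 := by
    have h1 := Subgroup.card_mul_index D.piHom.ker
    rw [Subgroup.index_ker, MonoidHom.range_eq_top.2 hsurj, Subgroup.card_top, hcardV, D.card_eq] at h1
    exact h1
  have hker' : Nat.card D.piHom.ker = p := by
    have hpos : 0 < p ^ 2 := pow_pos hp.out.pos 2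
    have : Nat.card D.piHom.ker * p ^ 2 = p * p ^ 2 := by rw [hker]; ring
    exact Nat.eq_of_mul_eq_mul_right hpos this
  have hcen : Nat.card (Subgroup.center P) = p := by
    rw [D.center_eq, Nat.card_zpowers, orderOf_eq_prime (D.pow_p _) D.z_ne]
  have heq : Subgroup.center P = D.piHom.ker :=
    Subgroup.eq_of_le_of_card_ge hle (by rw [hker', hcen])
  rw [heq, MonoidHom.mem_ker]
  constructor
  · intro h; change Multiplicative.ofAdd (D.pi w) = 1; rw [h]; rfl
  · intro h; exact Multiplicative.ofAdd.injective h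

theorem exists_decomp (w : P) : ∃ k : ZMod p, w = pw D.x0 (D.pi w 0) * pw D.y0 (D.pi w 1) * pw D.z k := by
  set u := pw D.x0 (D.pi w 0) * pw D.y0 (D.pi w 1) with hu
  have h1 : D.pi (u⁻¹ * w) = 0 := by
    have h2 : D.pi (u * (u⁻¹ * w)) = D.pi u + D.pi (u⁻¹ * w) := D.pi_mul _ _
    rw [mul_inv_cancel_left, hu, D.pi_lift] at h2
    exact left_eq_add.1 h2
  rw [D.pi_eq_zero_iff, D.center_eq] at h1
  obtain ⟨k, hk⟩ := exists_pw_of_mem_zpowers (D.pow_p _) h1
  exact ⟨k, by rw [← hk, mul_inv_cancel_left]⟩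

/-- The commutator pairing is the determinant. -/
theorem c_eq_det (u v : P) : D.c u v = D.pi u 0 * D.pi v 1 - D.pi u 1 * D.pi v 0 := by
  obtain ⟨k, hk⟩ := D.exists_decomp u
  conv_lhs => rw [hk]
  rw [D.c_mul_left, D.c_mul_left, D.c_pw_left, D.c_pw_left, D.c_pw_left, D.c_z_left, D.c_swap v D.y0]
  rw [← D.pi_zero_apply v, ← D.pi_one_apply v]
  ring

/-- The matrix of an automorphism. -/
noncomputable def mat (φ : P →* P) : Matrix (Fin 2) (Fin 2) (ZMod p) :=
  !![D.pi (φ D.x0) 0, D.pi (φ D.y0) 0; D.pi (φ D.x0) 1, D.pi (φ D.y0) 1]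

theorem map_z_mem (φ : MulAut P) : φ D.z ∈ Subgroup.center P := by
  rw [Subgroup.mem_center_iff]
  intro w
  obtain ⟨w', rfl⟩ := φ.surjective w
  rw [← map_mul, ← map_mul, (D.commute_z w').eq]

theorem exists_chi (φ : MulAut P) : ∃ k : ZMod p, φ D.z = pw D.z k := by
  have h := D.map_z_mem φ
  rw [D.center_eq] at h
  exact exists_pw_of_mem_zpowers (D.pow_p _) h

theorem pi_map (φ : MulAut P) (w : P) : D.pi (φ w) = Matrix.mulVec (D.mat φ.toMonoidHom) (D.pi w) := by
  obtain ⟨k, hk⟩ := D.exists_decomp w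
  have hz : D.pi (φ D.z) = 0 := D.pi_eq_zero_iff.2 (D.map_z_mem φ)
  conv_lhs => rw [hk]
  rw [map_mul, map_mul]
  have h1 : ∀ (x : P) (a : ZMod p), φ (pw x a) = pw (φ x) a := fun x a => map_pw φ.toMonoidHom x a
  rw [h1, h1, h1, D.pi_mul, D.pi_mul, D.pi_pw, D.pi_pw, D.pi_pw, hz, smul_zero, add_zero]
  ext i
  fin_cases i <;> simp [mat, Matrix.mulVec, dotProduct, Fin.sum_univ_two, mul_comm]

theorem det_mat (φ : MulAut P) : φ D.z = pw D.z (D.mat φ.toMonoidHom).det := by
  have h1 : (D.mat φ.toMonoidHom).det = D.c (φ D.x0) (φ D.y0) := by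
    rw [D.c_eq_det, Matrix.det_fin_two]
    simp [mat]
    ring
  rw [h1, ← D.c_spec, ← D.hz]
  simp

theorem det_mat_ne (φ : MulAut P) : (D.mat φ.toMonoidHom).det ≠ 0 := by
  intro h
  have h1 := D.det_mat φ
  rw [h, pw_zero] at h1
  exact D.z_ne ((map_eq_one_iff φ φ.injective).1 h1)

theorem mulVec_ext {M N : Matrix (Fin 2) (Fin 2) (ZMod p)}
    (h : ∀ w : P, Matrix.mulVec M (D.pi w) = Matrix.mulVec N (D.pi w)) : M = N := by
  have h0 := h D.x0
  have h1 := h D.y0
  rw [D.pi_x0] at h0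
  rw [D.pi_y0] at h1
  ext i j
  fin_cases j
  · have := congrFun h0 i
    fin_cases i <;> simpa using this
  · have := congrFun h1 i
    fin_cases i <;> simpa using this

/-- The representation of the automorphism group on the quotient by the centre. -/
noncomputable def rep : MulAut P →* GL (Fin 2) (ZMod p) where
  toFun φ := Matrix.GeneralLinearGroup.mkOfDetNeZero (D.mat φ.toMonoidHom) (D.det_mat_ne φ)
  map_one' := by
    apply Units.ext
    change D.mat (1 : MulAut P).toMonoidHom = 1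
    apply D.mulVec_ext
    intro w
    rw [← D.pi_map, Matrix.one_mulVec]; rfl
  map_mul' φ ψ := by
    apply Units.ext
    change D.mat (φ * ψ).toMonoidHom = D.mat φ.toMonoidHom * D.mat ψ.toMonoidHom
    apply D.mulVec_ext
    intro w
    rw [← D.pi_map, ← Matrix.mulVec_mulVec, ← D.pi_map, ← D.pi_map]; rfl

theorem rep_mulVec (φ : MulAut P) (w : P) :
    Matrix.mulVec (D.rep φ : Matrix (Fin 2) (Fin 2) (ZMod p)) (D.pi w) = D.pi (φ w) := (D.pi_map φ w).symm

theorem rep_det (φ : MulAut P) : φ D.z = pw D.z (D.rep φ : Matrix (Fin 2) (Fin 2) (ZMod p)).det := D.det_mat φ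

/-- Inner automorphisms act trivially. -/
theorem rep_conj (u : P) : D.rep (MulAut.conj u) = 1 := by
  apply Units.ext
  apply D.mulVec_ext
  intro w
  rw [D.rep_mulVec, Units.val_one, Matrix.one_mulVec, MulAut.conj_apply, D.conj_eq, D.pi_mul, D.pi_pw,
    D.pi_eq_zero_iff.2 D.z_mem, smul_zero, zero_add]

end HData

end Cfsg.Agent.H275.Heis
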